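import Mathlib.RingTheory.MvPolynomial.Basic
import Mathlib.RingTheory.Ideal.Quotient.Operations
import Mathlib.RingTheory.LocalRing.MaximalIdeal.Basic
import Mathlib.Algebra.CharP.Frobenius
import Mathlib.Algebra.MvPolynomial.Expand
import Mathlib.Tactic.LinearCombination
import Mathlib.Tactic.FinCases

set_option autoImplicit false

namespace K722.Alpha

open MvPolynomial

universe u

variable (p : ℕ) [Fact p.Prime] (R : Type u) [CommRing R] [IsLocalRing R] [CharP R p]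
    (lam f : R)

/-- `1 + λ W₂` is a unit modulo an ideal containing `W₂^p - f`. -/
theorem isUnit_aux (hlam : lam ∈ IsLocalRing.maximalIdeal R) (I : Ideal (MvPolynomial (Fin 2) R))
    (hI : (X 1 ^ p - C f : MvPolynomial (Fin 2) R) ∈ I) :
    IsUnit (Ideal.Quotient.mk I (1 + C lam * X 1)) := by
  have hp : p ≠ 0 := (Fact.out : p.Prime).ne_zero
  have h1 : IsUnit (1 + lam ^ p * f) := by
    have hm : lam ^ p * f ∈ IsLocalRing.maximalIdeal R :=
      Ideal.mul_mem_right _ _ (Ideal.pow_mem_of_mem _ hlam p (Nat.pos_of_ne_zero hp))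
    by_contra hcon
    have h2 : 1 + lam ^ p * f ∈ IsLocalRing.maximalIdeal R := by
      rw [IsLocalRing.mem_maximalIdeal]; exact hcon
    have h3 : (1 : R) ∈ IsLocalRing.maximalIdeal R := by
      have := Ideal.sub_mem _ h2 hm
      simpa using this
    exact (Ideal.ne_top_iff_one _).1 (IsLocalRing.maximalIdeal.isMaximal R).ne_top h3
  have h2 : Ideal.Quotient.mk I ((1 + C lam * X 1) ^ p) =
      Ideal.Quotient.mk I (C (1 + lam ^ p * f)) := by
    rw [Ideal.Quotient.eq]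
    rw [add_pow_char, one_pow, mul_pow, map_add, map_one, map_mul, map_pow]
    have : (1 + C lam ^ p * X 1 ^ p - (1 + C lam ^ p * C f) : MvPolynomial (Fin 2) R) =
      C lam ^ p * (X 1 ^ p - C f) := by ring
    rw [this]
    exact Ideal.mul_mem_left _ _ hI
  rw [← isUnit_pow_iff hp, ← map_pow, h2]
  exact (h1.map C).map _

theorem exists_equiv (hlam : lam ∈ IsLocalRing.maximalIdeal R) :
    ∃ e : (MvPolynomial (Fin 2) R ⧸ Ideal.span {(X 0 ^ p - C f : MvPolynomial (Fin 2) R), X 1 ^ p - C f}) ≃ₐ[R]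
        (MvPolynomial (Fin 2) R ⧸ Ideal.span {(X 0 ^ p : MvPolynomial (Fin 2) R), X 1 ^ p - C f}),
      e (Ideal.Quotient.mk _ (X 0)) = Ideal.Quotient.mk _ (X 0 + X 1 + C lam * X 0 * X 1) ∧
      e (Ideal.Quotient.mk _ (X 1)) = Ideal.Quotient.mk _ (X 1) := by
  set I₁ : Ideal (MvPolynomial (Fin 2) R) :=
    Ideal.span {(X 0 ^ p - C f : MvPolynomial (Fin 2) R), X 1 ^ p - C f} with hI₁
  set I₂ : Ideal (MvPolynomial (Fin 2) R) :=
    Ideal.span {(X 0 ^ p : MvPolynomial (Fin 2) R), X 1 ^ p - C f} with hI₂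
  have hp : p ≠ 0 := (Fact.out : p.Prime).ne_zero
  have m10 : (X 0 ^ p - C f : MvPolynomial (Fin 2) R) ∈ I₁ := Ideal.subset_span (by simp)
  have m11 : (X 1 ^ p - C f : MvPolynomial (Fin 2) R) ∈ I₁ := Ideal.subset_span (by simp)
  have m20 : (X 0 ^ p : MvPolynomial (Fin 2) R) ∈ I₂ := Ideal.subset_span (by simp)
  have m21 : (X 1 ^ p - C f : MvPolynomial (Fin 2) R) ∈ I₂ := Ideal.subset_span (by simp)
  obtain ⟨v, hv⟩ := (isUnit_aux p R lam f hlam I₁ m11).exists_right_inv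
  -- the forward map
  let φ₀ : MvPolynomial (Fin 2) R →ₐ[R] MvPolynomial (Fin 2) R ⧸ I₂ :=
    MvPolynomial.aeval ![Ideal.Quotient.mk I₂ (X 0 + X 1 + C lam * X 0 * X 1),
      Ideal.Quotient.mk I₂ (X 1)]
  have hφ0 : φ₀ (X 0) = Ideal.Quotient.mk I₂ (X 0 + X 1 + C lam * X 0 * X 1) := by
    simp [φ₀]
  have hφ1 : φ₀ (X 1) = Ideal.Quotient.mk I₂ (X 1) := by
    simp [φ₀]
  have hφC : ∀ r : R, φ₀ (C r) = Ideal.Quotient.mk I₂ (C r) := fun r => by
    simp only [φ₀, MvPolynomial.aeval_C]; rfl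
  have hφ : ∀ a ∈ I₁, φ₀ a = 0 := by
    intro a ha
    have : I₁ ≤ RingHom.ker φ₀ := by
      rw [hI₁, Ideal.span_le]
      rintro _ (rfl | rfl)
      · change φ₀ _ = 0
        rw [map_sub, map_pow, hφ0, hφC, ← map_pow, ← map_sub, Ideal.Quotient.eq_zero_iff_mem]
        have : ((X 0 + X 1 + C lam * X 0 * X 1) ^ p - C f : MvPolynomial (Fin 2) R) =
          (1 + C lam ^ p * X 1 ^ p) * X 0 ^ p + (X 1 ^ p - C f) := by
          rw [add_pow_char, add_pow_char, mul_pow, mul_pow]; ring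
        rw [this]
        exact Ideal.add_mem _ (Ideal.mul_mem_left _ _ m20) m21
      · change φ₀ _ = 0
        rw [map_sub, map_pow, hφ1, hφC, ← map_pow, ← map_sub, Ideal.Quotient.eq_zero_iff_mem]
        exact m21
    exact this ha
  let φ : (MvPolynomial (Fin 2) R ⧸ I₁) →ₐ[R] (MvPolynomial (Fin 2) R ⧸ I₂) :=
    Ideal.Quotient.liftₐ I₁ φ₀ hφ
  have hφmk : ∀ a, φ (Ideal.Quotient.mk I₁ a) = φ₀ a := fun a => rfl
  -- the backward map
  let ψ₀ : MvPolynomial (Fin 2) R →ₐ[R] MvPolynomial (Fin 2) R ⧸ I₁ :=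
    MvPolynomial.aeval ![Ideal.Quotient.mk I₁ (X 0 - X 1) * v, Ideal.Quotient.mk I₁ (X 1)]
  have hψ0 : ψ₀ (X 0) = Ideal.Quotient.mk I₁ (X 0 - X 1) * v := by simp [ψ₀]
  have hψ1 : ψ₀ (X 1) = Ideal.Quotient.mk I₁ (X 1) := by simp [ψ₀]
  have hψC : ∀ r : R, ψ₀ (C r) = Ideal.Quotient.mk I₁ (C r) := fun r => by
    simp only [ψ₀, MvPolynomial.aeval_C]; rfl
  have hψ : ∀ a ∈ I₂, ψ₀ a = 0 := by
    intro a ha
    have : I₂ ≤ RingHom.ker ψ₀ := by
      rw [hI₂, Ideal.span_le]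
      rintro _ (rfl | rfl)
      · change ψ₀ _ = 0
        rw [map_pow, hψ0, mul_pow, ← map_pow]
        have : ((X 0 - X 1) ^ p : MvPolynomial (Fin 2) R) = (X 0 ^ p - C f) - (X 1 ^ p - C f) := by
          rw [sub_pow_char]; ring
        rw [this, Ideal.Quotient.eq_zero_iff_mem.2 (Ideal.sub_mem _ m10 m11), zero_mul]
      · change ψ₀ _ = 0
        rw [map_sub, map_pow, hψ1, hψC, ← map_pow, ← map_sub, Ideal.Quotient.eq_zero_iff_mem]
        exact m11
    exact this ha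
  let ψ : (MvPolynomial (Fin 2) R ⧸ I₂) →ₐ[R] (MvPolynomial (Fin 2) R ⧸ I₁) :=
    Ideal.Quotient.liftₐ I₂ ψ₀ hψ
  have hψmk : ∀ a, ψ (Ideal.Quotient.mk I₂ a) = ψ₀ a := fun a => rfl
  have hφv : Ideal.Quotient.mk I₂ (1 + C lam * X 1) * φ v = 1 := by
    have h := congrArg φ hv
    rw [map_mul, map_one, hφmk, map_add, map_one, map_mul, hφ1, hφC, ← map_mul, ← map_one
      (Ideal.Quotient.mk I₂), ← map_add] at h
    rw [h, map_one]
  refine ⟨AlgEquiv.ofAlgHom φ ψ ?_ ?_, ?_, ?_⟩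
  · apply Ideal.Quotient.algHom_ext
    apply MvPolynomial.algHom_ext
    intro i
    fin_cases i
    · change φ (ψ (Ideal.Quotient.mk I₂ (X 0))) = Ideal.Quotient.mk I₂ (X 0)
      rw [hψmk, hψ0, map_mul, hφmk, map_sub, hφ0, hφ1, ← map_sub]
      have : (X 0 + X 1 + C lam * X 0 * X 1 - X 1 : MvPolynomial (Fin 2) R) =
        X 0 * (1 + C lam * X 1) := by ring
      rw [this, map_mul, mul_assoc, hφv, mul_one]
    · change φ (ψ (Ideal.Quotient.mk I₂ (X 1))) = Ideal.Quotient.mk I₂ (X 1)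
      rw [hψmk, hψ1, hφmk, hφ1]
  · apply Ideal.Quotient.algHom_ext
    apply MvPolynomial.algHom_ext
    intro i
    fin_cases i
    · change ψ (φ (Ideal.Quotient.mk I₁ (X 0))) = Ideal.Quotient.mk I₁ (X 0)
      rw [hφmk, hφ0, hψmk, map_add, map_add, map_mul, map_mul, hψ0, hψ1, hψC]
      have h := hv
      rw [map_add, map_mul, map_one] at h
      rw [map_sub]
      linear_combination (Ideal.Quotient.mk I₁ (X 0) - Ideal.Quotient.mk I₁ (X 1)) * h
    · change ψ (φ (Ideal.Quotient.mk I₁ (X 1))) = Ideal.Quotient.mk I₁ (X 1)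
      rw [hφmk, hφ1, hψmk, hψ1]
  · change φ (Ideal.Quotient.mk I₁ (X 0)) = _
    rw [hφmk, hφ0]
  · change φ (Ideal.Quotient.mk I₁ (X 1)) = _
    rw [hφmk, hφ1]

end K722.Alpha
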