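import Mathlib.AlgebraicGeometry.Morphisms.Flat
import Mathlib.AlgebraicGeometry.Morphisms.ClosedImmersion
import Mathlib.AlgebraicGeometry.Pullbacks
import Mathlib.RingTheory.Localization.FractionRing
import Mathlib.AlgebraicGeometry.Morphisms.Separated
import Mathlib.AlgebraicGeometry.Morphisms.SchemeTheoreticallyDominant

set_option autoImplicit false
universe u

/-! Extension of factorizations through a closed immersion from the generic fibre. -/

namespace K722.FlatRel

open CategoryTheory Limits AlgebraicGeometry

theorem factors {Z' Z W Γ : Scheme.{u}} (q : Z' ⟶ Z) [IsSchemeTheoreticallyDominant q] (j : Γ ⟶ W)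
    [IsClosedImmersion j] (f : Z ⟶ W) (g : Z' ⟶ Γ) (h : q ≫ f = g ≫ j) :
    ∃ l : Z ⟶ Γ, l ≫ j = f := by
  have h1 : (pullback.fst f j).ker ≤ (pullback.lift q g h ≫ pullback.fst f j).ker :=
    Scheme.Hom.le_ker_comp _ _
  rw [pullback.lift_fst, q.ker_eq_bot, le_bot_iff] at h1
  have h2 : IsIso (pullback.fst f j) := IsClosedImmersion.isIso_iff_ker_eq_bot.2 h1
  refine ⟨inv (pullback.fst f j) ≫ pullback.snd f j, ?_⟩
  rw [Category.assoc, ← pullback.condition, IsIso.inv_hom_id_assoc]

theorem dominant_generic (R K : Type u) [CommRing R] [IsDomain R] [Field K] [Algebra R K]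
    [IsFractionRing R K] :
    IsSchemeTheoreticallyDominant (Spec.map (CommRingCat.ofHom (algebraMap R K))) := by
  have hinj : Function.Injective (algebraMap R K) := IsFractionRing.injective R K
  have : IsDominant (Spec.map (CommRingCat.ofHom (algebraMap R K))) := by
    constructor
    have h1 : RingHom.ker (algebraMap R K) ≤ nilradical R := by
      rw [(RingHom.injective_iff_ker_eq_bot _).1 hinj]; exact bot_le
    exact (PrimeSpectrum.denseRange_comap_iff_ker_le_nilRadical (algebraMap R K)).2 h1
  have : IsReduced (Spec (CommRingCat.of R)) := inferInstance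
  exact IsSchemeTheoreticallyDominant.of_isDominant _

end K722.FlatRel
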